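import Mathlib

/-! The weighted Gaussian map on projective space is surjective. -/

universe u

open MvPolynomial

namespace Groth.Agent.GaussMap

theorem exists_split {σ : Type*} : ∀ (p : ℕ) (d : σ →₀ ℕ), p ≤ d.degree →
    ∃ d₁ d₂ : σ →₀ ℕ, d = d₁ + d₂ ∧ d₁.degree = p
  | 0, d, _ => ⟨0, d, by simp, map_zero _⟩
  | p + 1, d, h => by
    have hd : d ≠ 0 := fun h0 => by simp [h0] at h
    obtain ⟨i, hi⟩ := Finsupp.support_nonempty_iff.mpr hd
    have h1 : Finsupp.single i 1 ≤ d := by
      rw [Finsupp.single_le_iff]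
      exact Nat.one_le_iff_ne_zero.mpr (Finsupp.mem_support_iff.mp hi)
    have hdeg : d.degree = 1 + (d - Finsupp.single i 1).degree := by
      conv_lhs => rw [← add_tsub_cancel_of_le h1]
      rw [map_add, Finsupp.degree_single]
    obtain ⟨d₁, d₂, he, hp⟩ := exists_split p (d - Finsupp.single i 1) (by omega)
    refine ⟨Finsupp.single i 1 + d₁, d₂, ?_, ?_⟩
    · rw [add_assoc, ← he, add_tsub_cancel_of_le h1]
    · rw [map_add, Finsupp.degree_single, hp, add_comm]

/-- The Koszul relation on coordinates `i`, `j`. -/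
noncomputable def kz {k : Type u} [CommRing k] {n : ℕ} (i j : Fin n)
    (h : MvPolynomial (Fin n) k) : Fin n → MvPolynomial (Fin n) k :=
  Pi.single i (X j * h) - Pi.single j (X i * h)

/-- The weighted Gaussian map. -/
noncomputable def gmap {k : Type u} [CommRing k] {n : ℕ} (a b : ℕ)
    (σ τ : MvPolynomial (Fin n) k) : Fin n → MvPolynomial (Fin n) k :=
  fun i => (b : k) • (τ * pderiv i σ) - (a : k) • (σ * pderiv i τ)

theorem gmap_sub {k : Type u} [CommRing k] {n : ℕ} (a b : ℕ) (i j : Fin n)
    (A B : MvPolynomial (Fin n) k) :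
    gmap a b (A * X i) (B * X j) - gmap a b (A * X j) (B * X i) =
      ((a + b : ℕ) : k) • kz i j (A * B) := by
  funext l
  have hX : ∀ m : Fin n, pderiv l (X m : MvPolynomial (Fin n) k) = if m = l then 1 else 0 := by
    intro m
    rcases eq_or_ne m l with rfl | h
    · simp
    · rw [pderiv_X_of_ne h, if_neg h]
  have hs : ∀ (m : Fin n) (P : MvPolynomial (Fin n) k),
      (Pi.single m P : Fin n → MvPolynomial (Fin n) k) l = (if m = l then 1 else 0) * P := by
    intro m P
    rcases eq_or_ne m l with rfl | h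
    · simp
    · simp [h, Pi.single_eq_of_ne (Ne.symm h)]
  simp only [gmap, kz, Pi.sub_apply, Pi.smul_apply, pderiv_mul, hX, hs, MvPolynomial.smul_eq_C_mul,
    Nat.cast_add, map_add, map_natCast]
  generalize (if i = l then (1 : MvPolynomial (Fin n) k) else 0) = P
  generalize (if j = l then (1 : MvPolynomial (Fin n) k) else 0) = Q
  ring

theorem mem_span_gmap {k : Type u} [Field k] [CharZero k] (n e a b : ℕ) (he : 0 < e) (ha : 0 < a)
    (hb : 0 < b) (f : Fin n → MvPolynomial (Fin n) k)
    (hf : ∀ i, (f i).IsHomogeneous ((a + b) * e - 1)) (hEuler : ∑ i, X i * f i = 0) :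
    f ∈ Submodule.span k {g : Fin n → MvPolynomial (Fin n) k |
      ∃ σ τ : MvPolynomial (Fin n) k, σ.IsHomogeneous (a * e) ∧ τ.IsHomogeneous (b * e) ∧
        g = gmap a b σ τ} := by
  classical
  set S := Submodule.span k {g : Fin n → MvPolynomial (Fin n) k |
      ∃ σ τ : MvPolynomial (Fin n) k, σ.IsHomogeneous (a * e) ∧ τ.IsHomogeneous (b * e) ∧
        g = gmap a b σ τ}
  have hae : 1 ≤ a * e := Nat.one_le_iff_ne_zero.mpr (Nat.mul_pos ha he).ne'
  have hbe : 1 ≤ b * e := Nat.one_le_iff_ne_zero.mpr (Nat.mul_pos hb he).ne'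
  set N := (a + b) * e - 1
  have hN : N + 1 = a * e + b * e := by simp only [N, Nat.add_mul]; omega
  have hmono : ∀ (i j : Fin n) (d : Fin n →₀ ℕ) (c : k), d.degree = N - 1 →
      kz i j (monomial d c) ∈ S := by
    intro i j d c hd
    obtain ⟨d₁, d₂, rfl, hd₁⟩ := exists_split (a * e - 1) d (by omega)
    have hd₂ : d₂.degree = b * e - 1 := by rw [map_add] at hd; omega
    have hab0 : ((a + b : ℕ) : k) ≠ 0 := Nat.cast_ne_zero.mpr (by omega)
    have key := gmap_sub a b i j (monomial d₁ c) (monomial d₂ (1 : k))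
    rw [monomial_mul, mul_one] at key
    rw [← inv_smul_smul₀ hab0 (kz i j (monomial (d₁ + d₂) c)), ← key]
    have hX : ∀ (D : Fin n →₀ ℕ) (r : k) (m : Fin n) (t : ℕ), D.degree = t - 1 → 1 ≤ t →
        (monomial D r * X m).IsHomogeneous t := by
      intro D r m t hD ht
      have := (isHomogeneous_monomial r hD).mul (isHomogeneous_X k m)
      rwa [Nat.sub_add_cancel ht] at this
    refine S.smul_mem _ (S.sub_mem (Submodule.subset_span ⟨_, _, ?_, ?_, rfl⟩)
      (Submodule.subset_span ⟨_, _, ?_, ?_, rfl⟩))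
    exacts [hX _ _ _ _ hd₁ hae, hX _ _ _ _ hd₂ hbe, hX _ _ _ _ hd₁ hae, hX _ _ _ _ hd₂ hbe]
  have hkz : ∀ (i j : Fin n) (h : MvPolynomial (Fin n) k), h.IsHomogeneous (N - 1) →
      kz i j h ∈ S := by
    intro i j h hh
    let K : MvPolynomial (Fin n) k →+ (Fin n → MvPolynomial (Fin n) k) :=
      { toFun := kz i j
        map_zero' := by simp [kz]
        map_add' := fun p q => by
          simp only [kz, mul_add, Pi.single_add]
          abel }
    change K h ∈ S
    rw [h.as_sum, map_sum]
    refine sum_mem fun d hd => hmono i j d _ ?_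
    have := hh (mem_support_iff.mp hd)
    rwa [Finsupp.degree_eq_weight_one]
  let h : Fin n → Fin n → MvPolynomial (Fin n) k := fun i j => pderiv j (f i) - pderiv i (f j)
  have hmain : ((2 : ℕ) * (N + 1)) • f = ∑ i, ∑ j, kz i j (h i j) := by
    funext l
    have e1 : N • f l = ∑ j, X j * pderiv j (f l) := ((hf l).sum_X_mul_pderiv).symm
    have e2 : f l = -∑ j, X j * pderiv l (f j) := by
      have := congrArg (pderiv l) hEuler
      simp only [map_sum, pderiv_mul, map_zero, Finset.sum_add_distrib] at this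
      rw [Finset.sum_eq_single l (fun j _ hj => by rw [pderiv_X_of_ne hj, zero_mul])
        (by simp), pderiv_X_self, one_mul] at this
      exact eq_neg_of_add_eq_zero_left this
    have e3 : (N + 1) • f l = ∑ j, X j * h l j := by
      simp only [h, mul_sub, Finset.sum_sub_distrib]
      rw [add_smul, one_smul, e1]
      nth_rewrite 2 [e2]
      rw [← sub_eq_add_neg]
    simp only [kz, Pi.sub_apply, Finset.sum_apply, Pi.smul_apply, Finset.sum_sub_distrib,
      Pi.single_apply]
    rw [Finset.sum_comm (f := fun i j => if l = j then X i * h i j else 0)]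
    simp only [Finset.sum_ite_irrel, Finset.sum_const_zero, Finset.sum_ite_eq, Finset.mem_univ,
      if_true]
    rw [mul_smul, e3, two_smul, sub_eq_add_neg, ← Finset.sum_neg_distrib]
    congr 1
    exact Finset.sum_congr rfl fun j _ => by simp only [h]; ring
  have hmem : ((2 : ℕ) * (N + 1)) • f ∈ S := by
    rw [hmain]
    exact sum_mem fun i _ => sum_mem fun j _ =>
      hkz i j _ ((hf i).pderiv.sub (hf j).pderiv)
  rw [← Nat.cast_smul_eq_nsmul k] at hmem
  exact (S.smul_mem_iff (Nat.cast_ne_zero.mpr (by omega))).mp hmem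

end Groth.Agent.GaussMap
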